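import Mathlib

/-!
Similar diagonal matrices have the same multiset of entries.
-/

set_option autoImplicit false

namespace Cfsg.Agent.Lib.G2Sections

open Matrix Polynomial

variable {n : Type*} [Fintype n] [DecidableEq n] {K : Type*} [Field K]

theorem map_eq_of_conj_diagonal {P : GL n K} {d e : n → K}
    (h : (P : Matrix n n K) * diagonal d * ((P⁻¹ : GL n K) : Matrix n n K) = diagonal e) :
    Finset.univ.val.map d = Finset.univ.val.map e := by
  have hc := congrArg Matrix.charpoly h
  rw [Matrix.coe_units_inv, Matrix.charpoly_units_conj, charpoly_diagonal, charpoly_diagonal] at hc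
  have hd : ∀ f : n → K, (∏ i, (X - C (f i))).roots = Finset.univ.val.map f := by
    intro f
    rw [← roots_multiset_prod_X_sub_C (Finset.univ.val.map f), Multiset.map_map]
    rfl
  rw [← hd d, ← hd e, hc]

theorem card_filter_eq_of_map_eq {d e : n → K} (h : Finset.univ.val.map d = Finset.univ.val.map e)
    [DecidableEq K] (a : K) :
    (Finset.univ.filter fun i => d i = a).card = (Finset.univ.filter fun i => e i = a).card := by
  have := congrArg (Multiset.count a) h
  simp only [Multiset.count_map] at this
  simpa [Finset.card, Finset.filter_val, eq_comm] using this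

end Cfsg.Agent.Lib.G2Sections
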