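import Cfsg.Agent.Lib.G2Sections.TwoRank
import Cfsg.Agent.Lib.LinGroup.SLTwoTwoSylow

/-!
The alternating group of degree eight is not a section of a group of type G2 in odd characteristic
different from three.
-/

set_option autoImplicit false

namespace Cfsg.Agent.Lib.G2Sections

open Equiv

/-- The four commuting involutions. -/
def fourInv : Fin 4 → Equiv.Perm (Fin 8) :=
  ![swap 0 1 * swap 2 3, swap 0 2 * swap 1 3, swap 4 5 * swap 6 7, swap 4 6 * swap 5 7]

/-- The elementary abelian subgroup of order sixteen. -/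
def sixteenPerm (v : Fin 4 → Bool) : Equiv.Perm (Fin 8) :=
  (if v 0 then fourInv 0 else 1) * (if v 1 then fourInv 1 else 1) *
    ((if v 2 then fourInv 2 else 1) * (if v 3 then fourInv 3 else 1))

set_option maxRecDepth 4000 in
theorem sixteenPerm_mul : ∀ v w : Fin 4 → Bool,
    sixteenPerm v * sixteenPerm w = sixteenPerm (fun i => xor (v i) (w i)) := by decide +kernel

set_option maxRecDepth 4000 in
theorem sixteenPerm_injective : Function.Injective sixteenPerm := by
  intro v w; revert v w; decide +kernel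

theorem sixteenPerm_sign : ∀ v : Fin 4 → Bool, Perm.sign (sixteenPerm v) = 1 := by decide +kernel

/-- Two commuting three cycles. -/
def ninePerm (v : Fin 3 × Fin 3) : Equiv.Perm (Fin 8) :=
  (swap 0 1 * swap 1 2) ^ (v.1 : ℕ) * (swap 3 4 * swap 4 5) ^ (v.2 : ℕ)

theorem ninePerm_mul : ∀ v w : Fin 3 × Fin 3, ninePerm v * ninePerm w = ninePerm (v + w) := by
  decide +kernel

theorem ninePerm_injective : Function.Injective ninePerm := by
  intro v w; revert v w; decide +kernel

theorem ninePerm_sign : ∀ v : Fin 3 × Fin 3, Perm.sign (ninePerm v) = 1 := by decide +kernel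

theorem ninePerm_cube : ∀ v : Fin 3 × Fin 3, ninePerm v ^ 3 = 1 := by decide +kernel

theorem exists_subgroup_sixteen : ∃ V : Subgroup ↥(alternatingGroup (Fin 8)),
    Nat.card V = 16 ∧ (∀ a ∈ V, ∀ b ∈ V, a * b = b * a) ∧ ∀ a ∈ V, a * a = 1 := by
  classical
  refine ⟨{ carrier := Set.range fun v =>
              (⟨sixteenPerm v, sixteenPerm_sign v⟩ : ↥(alternatingGroup (Fin 8)))
            one_mem' := ⟨fun _ => false, Subtype.ext (by decide +kernel)⟩
            mul_mem' := ?_
            inv_mem' := ?_ }, ?_, ?_, ?_⟩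
  · rintro _ _ ⟨v, rfl⟩ ⟨w, rfl⟩
    exact ⟨fun i => xor (v i) (w i), Subtype.ext (sixteenPerm_mul v w).symm⟩
  · rintro _ ⟨v, rfl⟩
    refine ⟨v, (inv_eq_of_mul_eq_one_right (Subtype.ext ?_)).symm⟩
    show sixteenPerm v * sixteenPerm v = 1
    rw [sixteenPerm_mul]
    simp [sixteenPerm]
  · show Nat.card ↥(Set.range fun v =>
      (⟨sixteenPerm v, sixteenPerm_sign v⟩ : ↥(alternatingGroup (Fin 8)))) = 16
    rw [Nat.card_range_of_injective fun v w e => sixteenPerm_injective (congrArg Subtype.val e)]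
    simp [Nat.card_eq_fintype_card]
  · rintro _ ⟨v, rfl⟩ _ ⟨w, rfl⟩
    refine Subtype.ext ?_
    show sixteenPerm v * sixteenPerm w = sixteenPerm w * sixteenPerm v
    rw [sixteenPerm_mul, sixteenPerm_mul]
    simp only [Bool.xor_comm]
  · rintro _ ⟨v, rfl⟩
    refine Subtype.ext ?_
    show sixteenPerm v * sixteenPerm v = 1
    rw [sixteenPerm_mul]
    simp [sixteenPerm]

theorem exists_subgroup_nine : ∃ V : Subgroup ↥(alternatingGroup (Fin 8)),
    Nat.card V = 9 ∧ ¬ IsCyclic V := by
  classical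
  let f : Fin 3 × Fin 3 → ↥(alternatingGroup (Fin 8)) := fun v => ⟨ninePerm v, ninePerm_sign v⟩
  let V : Subgroup ↥(alternatingGroup (Fin 8)) :=
    { carrier := Set.range f
      one_mem' := ⟨0, Subtype.ext (by decide +kernel)⟩
      mul_mem' := by rintro _ _ ⟨v, rfl⟩ ⟨w, rfl⟩; exact ⟨v + w, Subtype.ext (ninePerm_mul v w).symm⟩
      inv_mem' := by
        rintro _ ⟨v, rfl⟩
        refine ⟨-v, (inv_eq_of_mul_eq_one_right (Subtype.ext ?_)).symm⟩
        show ninePerm v * ninePerm (-v) = 1
        rw [ninePerm_mul, add_neg_cancel]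
        decide +kernel }
  have hV : Nat.card V = 9 := by
    show Nat.card ↥(Set.range f) = 9
    rw [Nat.card_range_of_injective fun v w e => ninePerm_injective (congrArg Subtype.val e)]
    simp
  refine ⟨V, hV, fun hc => ?_⟩
  obtain ⟨g, hg⟩ := IsCyclic.exists_generator (α := V)
  have h9 : orderOf g = 9 := (orderOf_eq_card_of_forall_mem_zpowers hg).trans hV
  obtain ⟨v, hv⟩ := g.2
  have h3 : g ^ 3 = 1 := Subtype.ext (Subtype.ext (by
    show ((g : ↥(alternatingGroup (Fin 8))) : Equiv.Perm (Fin 8)) ^ 3 = 1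
    rw [← hv]; exact ninePerm_cube v))
  have := orderOf_dvd_of_pow_eq_one h3
  rw [h9] at this
  norm_num at this

variable {C : Type*} [Group C] [Finite C]

/-- The centralising factor of a commuting product of two copies of `SL₂` has cyclic 3-sections. -/
theorem isCyclic_of_commuting_product {p : ℕ} [Fact p.Prime] (hp3 : p ≠ 3)
    {F : Type*} [Field F] [Fintype F] [CharP F p] (L₁ L₂ : Subgroup C) [L₁.Normal]
    (e₂ : L₂ ≃* Matrix.SpecialLinearGroup (Fin 2) F) (htop : L₁ ⊔ L₂ = ⊤)
    (R : Subgroup (C ⧸ L₁)) (hR : IsPGroup 3 R) : IsCyclic R := by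
  classical
  let π : L₂ →* C ⧸ L₁ := (QuotientGroup.mk' L₁).comp L₂.subtype
  have hπ : Function.Surjective π := by
    rw [← MonoidHom.range_eq_top, MonoidHom.range_comp, Subgroup.range_subtype, eq_top_iff]
    intro x _
    obtain ⟨c, rfl⟩ := QuotientGroup.mk'_surjective L₁ x
    have hc : c ∈ (↑(L₁ ⊔ L₂) : Set C) := by rw [htop]; trivial
    rw [Subgroup.normal_mul] at hc
    obtain ⟨a, ha, b, hb, rfl⟩ := hc
    exact ⟨b, hb, by rw [map_mul, show QuotientGroup.mk' L₁ a = 1 from
      (QuotientGroup.eq_one_iff a).2 ha, one_mul]⟩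
  let B : Subgroup L₂ := R.comap π
  let φ : B →* R := (π.comp B.subtype).codRestrict R fun b => b.2
  have hφ : Function.Surjective φ := by
    rintro ⟨r, hr⟩
    obtain ⟨b, rfl⟩ := hπ r
    exact ⟨⟨b, hr⟩, rfl⟩
  obtain ⟨S⟩ : Nonempty (Sylow 3 B) := inferInstance
  have hS : (S : Subgroup B).map φ = ⊤ := by
    refine Subgroup.eq_top_of_card_eq _ ?_
    have hcard := (S.mapSurjective hφ).card_eq_multiplicity
    obtain ⟨k, hk⟩ := IsPGroup.iff_card.1 hR
    rw [hk] at hcard ⊢
    rw [show ((S : Subgroup B).map φ) = ((S.mapSurjective hφ : Sylow 3 R) : Subgroup R) from rfl,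
      hcard, Nat.Prime.factorization_pow Nat.prime_three, Finsupp.single_eq_same]
  haveI : Fact (Nat.Prime 3) := ⟨Nat.prime_three⟩
  haveI : IsCyclic ↥(S : Subgroup B) := by
    let S' : Subgroup (Matrix.SpecialLinearGroup (Fin 2) F) :=
      (S : Subgroup B).map (e₂.toMonoidHom.comp B.subtype)
    have hinj : Function.Injective (e₂.toMonoidHom.comp B.subtype) :=
      e₂.injective.comp B.subtype_injective
    haveI := LinGroup.isCyclic_of_isPGroup p (r := 3) (by norm_num) (Ne.symm hp3) S' (S.2.map _)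
    exact isCyclic_of_surjective
      ((S : Subgroup B).equivMapOfInjective _ hinj).symm.toMonoidHom
      ((S : Subgroup B).equivMapOfInjective _ hinj).symm.surjective
  haveI : IsCyclic ↥((S : Subgroup B).map φ) :=
    isCyclic_of_surjective (φ.subgroupMap (S : Subgroup B)) (φ.subgroupMap_surjective _)
  rw [hS] at this
  exact isCyclic_of_surjective Subgroup.topEquiv.toMonoidHom Subgroup.topEquiv.surjective

open Cfsg.Lie

/-- A normal subgroup of a group of order nine which is generated by squares. -/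
theorem closure_squares_altEight :
    Subgroup.closure (Set.range fun a : ↥(alternatingGroup (Fin 8)) => a * a) = ⊤ := by
  haveI : IsSimpleGroup ↥(alternatingGroup (Fin 8)) := alternatingGroup.isSimpleGroup (by simp)
  have hn : (Subgroup.closure (Set.range fun a : ↥(alternatingGroup (Fin 8)) => a * a)).Normal := by
    refine ⟨fun n hn g => ?_⟩
    induction hn using Subgroup.closure_induction with
    | mem x hx =>
      obtain ⟨a, rfl⟩ := hx
      exact Subgroup.subset_closure ⟨g * a * g⁻¹, by group⟩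
    | one => simp
    | mul x y _ _ hx hy =>
      rw [show g * (x * y) * g⁻¹ = (g * x * g⁻¹) * (g * y * g⁻¹) by group]
      exact mul_mem hx hy
    | inv x _ hx => rw [show g * x⁻¹ * g⁻¹ = (g * x * g⁻¹)⁻¹ by group]; exact inv_mem hx
  refine hn.eq_bot_or_eq_top.resolve_left fun h0 => ?_
  obtain ⟨V, hV9, -⟩ := exists_subgroup_nine
  haveI : Fact (Nat.Prime 3) := ⟨Nat.prime_three⟩
  obtain ⟨x, hx⟩ := exists_prime_orderOf_dvd_card' (G := V) 3 (by rw [hV9]; norm_num)
  have hmem : (x : ↥(alternatingGroup (Fin 8))) * x ∈ (⊥ : Subgroup _) := by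
    rw [← h0]; exact Subgroup.subset_closure ⟨_, rfl⟩
  rw [Subgroup.mem_bot, ← pow_two] at hmem
  have := orderOf_dvd_of_pow_eq_one hmem
  rw [Subgroup.orderOf_coe, hx] at this
  norm_num at this

variable {F : Type*} [Field F] [Fintype F] {p : ℕ} [Fact p.Prime] [CharP F p]

/-- A minimal subgroup mapping onto the alternating group of degree eight centralises no
involution. -/
theorem no_central_involution (hF : Odd (Fintype.card F)) (hp3 : p ≠ 3)
    (H : Subgroup ↥(chevG2.group F))
    (f : H →* ↥(alternatingGroup (Fin 8))) (hf : Function.Surjective f)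
    (hmin : ∀ M : Subgroup H, M.map f = ⊤ → M = ⊤) (z : H) (hz : orderOf z = 2)
    (hzc : ∀ h : H, h * z = z * h) : False := by
  classical
  haveI : IsSimpleGroup ↥(alternatingGroup (Fin 8)) := alternatingGroup.isSimpleGroup (by simp)
  have ht : orderOf (z : ↥(chevG2.group F)) = 2 := by rw [Subgroup.orderOf_coe, hz]
  obtain ⟨-, L₁, L₂, ⟨e₁⟩, ⟨e₂⟩, hcomm, -, hle, hidx⟩ := G2Inv.centralizer_structure hF _ ht
  have hHC : H ≤ Subgroup.centralizer ({(z : ↥(chevG2.group F))} : Set ↥(chevG2.group F)) :=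
    fun h hh => Subgroup.mem_centralizer_singleton_iff.2 (congrArg Subtype.val (hzc ⟨h, hh⟩))
  have htop : Subgroup.closure (Set.range fun h : H => h * h) = ⊤ := by
    refine hmin _ ?_
    rw [eq_top_iff, ← closure_squares_altEight, Subgroup.closure_le]
    rintro _ ⟨a, rfl⟩
    obtain ⟨h, rfl⟩ := hf a
    exact ⟨h * h, Subgroup.subset_closure ⟨h, rfl⟩, map_mul f h h⟩
  have hHL : H ≤ L₁ ⊔ L₂ := by
    intro h hh
    have hm : (⟨h, hh⟩ : H) ∈ Subgroup.closure (Set.range fun h : H => h * h) := by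
      rw [htop]; trivial
    refine (Subgroup.closure_le ((L₁ ⊔ L₂).subgroupOf H)).2 ?_ hm
    rintro _ ⟨a, rfl⟩
    exact Subgroup.mem_subgroupOf.1 (Subgroup.mul_self_mem_of_index_two
      (H := (L₁ ⊔ L₂).subgroupOf _) hidx ⟨(a : ↥(chevG2.group F)), hHC a.2⟩)
  haveI : (L₁.subgroupOf (L₁ ⊔ L₂)).Normal := by
    refine Subgroup.normal_subgroupOf_of_le_normalizer (sup_le Subgroup.le_normalizer fun b hb => ?_)
    rw [Subgroup.mem_normalizer_iff]
    intro a
    have key : ∀ x ∈ L₁, b * x * b⁻¹ = x := fun x hx => by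
      rw [← hcomm x hx b hb, mul_inv_cancel_right]
    constructor
    · intro ha; rw [key a ha]; exact ha
    · intro ha
      have h' : b * (b * a * b⁻¹) * b⁻¹ = b * a * b⁻¹ := key _ ha
      have h'' : b * a * b⁻¹ = a := mul_left_cancel (mul_right_cancel h')
      rwa [h''] at ha
  let inc : H →* ↥(L₁ ⊔ L₂) := Subgroup.inclusion hHL
  let π : H →* ↥(L₁ ⊔ L₂) ⧸ L₁.subgroupOf (L₁ ⊔ L₂) := (QuotientGroup.mk' _).comp inc
  obtain ⟨V, hV9, hVc⟩ := exists_subgroup_nine
  haveI : Fact (Nat.Prime 3) := ⟨Nat.prime_three⟩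
  haveI : (π.ker.map f).Normal := Subgroup.Normal.map inferInstance f hf
  let P : Subgroup H := V.comap f
  let g : P →* V := (f.comp P.subtype).codRestrict V fun x => x.2
  have hg : Function.Surjective g := by
    rintro ⟨v, hv⟩
    obtain ⟨x, rfl⟩ := hf v
    exact ⟨⟨x, hv⟩, rfl⟩
  obtain ⟨S⟩ : Nonempty (Sylow 3 P) := inferInstance
  have hgS : (S : Subgroup P).map g = ⊤ := by
    refine Subgroup.eq_top_of_card_eq _ ?_
    rw [show ((S : Subgroup P).map g) = ((S.mapSurjective hg : Sylow 3 V) : Subgroup V) from rfl,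
      (S.mapSurjective hg).card_eq_multiplicity, hV9, show (9 : ℕ) = 3 ^ 2 by norm_num,
      Nat.Prime.factorization_pow Nat.prime_three, Finsupp.single_eq_same]
  let S₀ : Subgroup H := (S : Subgroup P).map P.subtype
  rcases (inferInstance : (π.ker.map f).Normal).eq_bot_or_eq_top with h0 | h1
  · -- the map to the second factor keeps the section
    haveI : IsCyclic ↥(S₀.map π) := isCyclic_of_commuting_product hp3
      (L₁.subgroupOf (L₁ ⊔ L₂)) (L₂.subgroupOf (L₁ ⊔ L₂))
      ((Subgroup.subgroupOfEquivOfLe (le_sup_right : L₂ ≤ L₁ ⊔ L₂)).trans e₂)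
      ((Subgroup.subgroupOf_sup le_sup_left le_sup_right).symm.trans (Subgroup.subgroupOf_self _))
      _ ((S.2.map _).map π)
    obtain ⟨c, hc⟩ := IsCyclic.exists_generator (α := ↥(S₀.map π))
    obtain ⟨s, hs, hsc⟩ := c.2
    have hsub : V ≤ Subgroup.zpowers (f s) := by
      intro v hv
      obtain ⟨x, hxS, hx⟩ : (⟨v, hv⟩ : V) ∈ (S : Subgroup P).map g := by rw [hgS]; trivial
      obtain ⟨m, hm⟩ := Subgroup.mem_zpowers_iff.1
        (hc ⟨π (x : H), Subgroup.mem_map_of_mem π (Subgroup.mem_map_of_mem _ hxS)⟩)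
      have hm' : π s ^ m = π (x : H) := by
        rw [hsc]; exact congrArg Subtype.val hm
      have : f ((s ^ m)⁻¹ * (x : H)) ∈ (⊥ : Subgroup _) := by
        rw [← h0]
        refine Subgroup.mem_map_of_mem f ?_
        rw [MonoidHom.mem_ker, map_mul, map_inv, map_zpow, hm', inv_mul_cancel]
      rw [Subgroup.mem_bot, map_mul, map_inv, inv_mul_eq_one, map_zpow] at this
      exact ⟨m, this.trans (congrArg Subtype.val hx)⟩
    exact hVc (isCyclic_of_surjective (Subgroup.subgroupOfEquivOfLe hsub).toMonoidHom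
      (Subgroup.subgroupOfEquivOfLe hsub).surjective)
  · -- everything lies in the first factor
    have hker : π.ker = ⊤ := hmin _ h1
    have hH1 : H ≤ L₁ := fun h hh => by
      have : (⟨h, hh⟩ : H) ∈ π.ker := by rw [hker]; trivial
      exact Subgroup.mem_subgroupOf.1 ((QuotientGroup.eq_one_iff _).1 this)
    let φ : P →* Matrix.SpecialLinearGroup (Fin 2) F :=
      e₁.toMonoidHom.comp ((Subgroup.inclusion hH1).comp P.subtype)
    have hφ : Function.Injective φ :=
      e₁.injective.comp ((Subgroup.inclusion_injective hH1).comp P.subtype_injective)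
    haveI := LinGroup.isCyclic_of_isPGroup p (r := 3) (by norm_num) (Ne.symm hp3)
      ((S : Subgroup P).map φ) (S.2.map _)
    haveI : IsCyclic ↥(S : Subgroup P) := isCyclic_of_surjective
      ((S : Subgroup P).equivMapOfInjective _ hφ).symm.toMonoidHom
      ((S : Subgroup P).equivMapOfInjective _ hφ).symm.surjective
    haveI : IsCyclic ↥((S : Subgroup P).map g) :=
      isCyclic_of_surjective (g.subgroupMap (S : Subgroup P)) (g.subgroupMap_surjective _)
    rw [hgS] at this
    exact hVc (isCyclic_of_surjective Subgroup.topEquiv.toMonoidHom Subgroup.topEquiv.surjective)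

/-- An automorphism group of a group of order at most eight is small. -/
theorem card_mulAut_le {A : Type*} [Group A] [Finite A] (hA : Nat.card A ≤ 8) :
    Nat.card (MulAut A) ≤ 5040 := by
  classical
  let j : MulAut A → Equiv.Perm {a : A // a ≠ 1} := fun e =>
    e.toEquiv.subtypeEquiv fun a => by simp
  have hj : Function.Injective j := by
    intro e e' h
    refine MulEquiv.ext fun a => ?_
    by_cases ha : a = 1
    · simp [ha]
    · exact congrArg (fun u : Equiv.Perm {a : A // a ≠ 1} => ((u ⟨a, ha⟩ : {a : A // a ≠ 1}) : A)) h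
  refine le_trans (Nat.card_le_card_of_injective j hj) ?_
  letI : Fintype A := Fintype.ofFinite _
  rw [Nat.card_perm, show (5040 : ℕ) = Nat.factorial 7 by decide]
  refine Nat.factorial_le ?_
  rw [Nat.card_eq_fintype_card, Fintype.card_subtype_compl, Fintype.card_subtype_eq,
    ← Nat.card_eq_fintype_card]
  omega

theorem card_altEight : Nat.card ↥(alternatingGroup (Fin 8)) = 20160 := by
  rw [nat_card_alternatingGroup, Nat.card_eq_fintype_card, Fintype.card_fin]
  decide

/-- Elements of order two in the centre of a normal nilpotent subgroup generate a normal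
elementary abelian subgroup; here it is trivial. -/
theorem odd_card_ker (hF : Odd (Fintype.card F)) (hp3 : p ≠ 3)
    (H : Subgroup ↥(chevG2.group F))
    (f : H →* ↥(alternatingGroup (Fin 8))) (hf : Function.Surjective f)
    (hmin : ∀ M : Subgroup H, M.map f = ⊤ → M = ⊤) : Odd (Nat.card f.ker) := by
  classical
  haveI : IsSimpleGroup ↥(alternatingGroup (Fin 8)) := alternatingGroup.isSimpleGroup (by simp)
  have hfrat : f.ker ≤ frattini H := by
    refine le_iInf₂ fun M hM => ?_
    by_contra hle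
    have hM' : IsCoatom M := hM
    have h1 : M ⊔ f.ker = ⊤ := hM'.2 _ (lt_of_le_of_ne le_sup_left fun e => hle (sup_eq_left.1 e.symm))
    refine hM'.1 (hmin M ?_)
    have := congrArg (Subgroup.map f) h1
    rwa [Subgroup.map_sup, (Subgroup.map_eq_bot_iff _).2 le_rfl, sup_bot_eq,
      Subgroup.map_top_of_surjective f hf] at this
  haveI : Group.IsNilpotent (frattini H) := frattini_nilpotent
  haveI : Group.IsNilpotent f.ker :=
    (Group.isNilpotent_congr (Subgroup.subgroupOfEquivOfLe hfrat)).1 inferInstance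
  haveI : Fact (Nat.Prime 2) := ⟨Nat.prime_two⟩
  by_contra heven
  rw [Nat.not_odd_iff_even, even_iff_two_dvd] at heven
  obtain ⟨Q⟩ : Nonempty (Sylow 2 f.ker) := inferInstance
  haveI hQn : (Q : Subgroup f.ker).Normal := inferInstance
  haveI : (Q : Subgroup f.ker).Characteristic := Q.characteristic_of_normal hQn
  let Qh : Subgroup H := (Q : Subgroup f.ker).map f.ker.subtype
  haveI hQh : Qh.Normal := ConjAct.normal_of_characteristic_of_normal
  have hQ2 : IsPGroup 2 Qh := Q.2.map _
  have hQhne : Nontrivial Qh := by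
    rw [Subgroup.nontrivial_iff_ne_bot, Ne, Subgroup.map_eq_bot_iff_of_injective _ f.ker.subtype_injective]
    exact Q.ne_bot_of_dvd_card heven
  let Zc : Subgroup H := (Subgroup.center Qh).map Qh.subtype
  haveI hZn : Zc.Normal := ConjAct.normal_of_characteristic_of_normal
  have hZcomm : ∀ a ∈ Zc, ∀ b ∈ Zc, a * b = b * a := by
    rintro _ ⟨a, ha, rfl⟩ _ ⟨b, -, rfl⟩
    exact congrArg Subtype.val (Subgroup.mem_center_iff.1 ha b).symm
  let A : Subgroup H :=
    { carrier := {x | x ∈ Zc ∧ x * x = 1}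
      one_mem' := ⟨one_mem _, one_mul 1⟩
      mul_mem' := by
        rintro a b ⟨ha, ha2⟩ ⟨hb, hb2⟩
        refine ⟨mul_mem ha hb, ?_⟩
        rw [mul_assoc, ← mul_assoc b, hZcomm b hb a ha, mul_assoc, ← mul_assoc a, ha2, hb2, one_mul]
      inv_mem' := by
        rintro a ⟨ha, ha2⟩
        exact ⟨inv_mem ha, by rw [← _root_.mul_inv_rev, ha2, inv_one]⟩ }
  have hA8le : Nat.card A ≤ 8 := by
    rw [Nat.card_congr (A.equivMapOfInjective _ H.subtype_injective).toEquiv]
    refine card_le_eight hF _ ?_ ?_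
    · rintro _ ⟨a, ha, rfl⟩ _ ⟨b, hb, rfl⟩; rw [← map_mul, ← map_mul, hZcomm a ha.1 b hb.1]
    · rintro _ ⟨a, ha, rfl⟩; rw [← map_mul, ha.2, map_one]
  haveI hAn : A.Normal := by
    refine ⟨fun a ha g => ⟨hZn.conj_mem a ha.1 g, ?_⟩⟩
    rw [show g * a * g⁻¹ * (g * a * g⁻¹) = g * (a * a) * g⁻¹ by group, ha.2]
    group
  haveI := hQ2.center_nontrivial
  obtain ⟨z, hz⟩ := exists_prime_orderOf_dvd_card' (G := Subgroup.center Qh) 2 (by
    obtain ⟨k, hk0, hk⟩ := (hQ2.to_subgroup (Subgroup.center Qh)).nontrivial_iff_card.1 inferInstance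
    rw [hk]
    exact dvd_pow_self 2 hk0.ne')
  have hzo : orderOf ((z : Qh) : H) = 2 := by rw [Subgroup.orderOf_coe, Subgroup.orderOf_coe, hz]
  have hzA : ((z : Qh) : H) ∈ A :=
    ⟨Subgroup.mem_map_of_mem _ z.2, by rw [← pow_two, ← hzo, pow_orderOf_eq_one]⟩
  let act : H →* MulAut A := MulAut.conjNormal
  haveI : (act.ker.map f).Normal := Subgroup.Normal.map inferInstance f hf
  rcases (inferInstance : (act.ker.map f).Normal).eq_bot_or_eq_top with h0 | h1
  · have hle : act.ker ≤ f.ker := fun x hx => by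
      have : f x ∈ act.ker.map f := Subgroup.mem_map_of_mem f hx
      rw [h0] at this
      exact this
    have hd := Subgroup.index_dvd_of_le hle
    rw [Subgroup.index_ker, Subgroup.index_ker, MonoidHom.range_eq_top.2 hf, Subgroup.card_top,
      card_altEight] at hd
    have hb : Nat.card act.range ≤ 5040 :=
      le_trans (Subgroup.card_le_card_group _) (card_mulAut_le hA8le)
    have := Nat.le_of_dvd Nat.card_pos hd
    omega
  · refine no_central_involution hF hp3 H f hf hmin _ hzo fun h => ?_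
    have hh : h ∈ act.ker := by rw [hmin _ h1]; trivial
    have := congrArg (fun e : MulAut A => ((e ⟨_, hzA⟩ : A) : H)) hh
    simp only [act, MulAut.conjNormal_apply, MulAut.one_apply] at this
    exact mul_inv_eq_iff_eq_mul.1 this

/-- A minimal subgroup mapping onto the alternating group of degree eight does not exist. -/
theorem no_altEight_min (hF : Odd (Fintype.card F)) (hp3 : p ≠ 3)
    (H : Subgroup ↥(chevG2.group F))
    (f : H →* ↥(alternatingGroup (Fin 8))) (hf : Function.Surjective f)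
    (hmin : ∀ M : Subgroup H, M.map f = ⊤ → M = ⊤) : False := by
  classical
  have hodd := odd_card_ker hF hp3 H f hf hmin
  haveI : Fact (Nat.Prime 2) := ⟨Nat.prime_two⟩
  obtain ⟨V, hV16, hVc, hVs⟩ := exists_subgroup_sixteen
  let P : Subgroup H := V.comap f
  obtain ⟨B, hB⟩ := Sylow.exists_subgroup_card_pow_prime (G := P) 2 (n := 4) (by
    refine dvd_trans (dvd_of_eq (by rw [hV16]; norm_num : 2 ^ 4 = Nat.card V)) ?_
    have : P.map f = V := Subgroup.map_comap_eq_self_of_surjective hf V
    rw [← this]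
    exact Subgroup.card_map_dvd _ _)
  let B₀ : Subgroup H := B.map P.subtype
  have hB₀ : Nat.card B₀ = 16 := by
    rw [← Nat.card_congr (B.equivMapOfInjective _ P.subtype_injective).toEquiv, hB]; norm_num
  have hinj : ∀ b ∈ B₀, f b = 1 → b = 1 := by
    intro b hb hfb
    have h1 : orderOf b ∣ 16 := by rw [← hB₀]; exact Subgroup.orderOf_dvd_natCard _ hb
    have h2 : orderOf b ∣ Nat.card f.ker := Subgroup.orderOf_dvd_natCard _ hfb
    have hco : Nat.Coprime 16 (Nat.card f.ker) := by
      rw [show (16 : ℕ) = 2 ^ 4 by norm_num]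
      exact Nat.Coprime.pow_left _ (Nat.coprime_two_left.2 hodd)
    exact orderOf_eq_one_iff.1 (Nat.eq_one_of_dvd_coprimes hco h1 h2)
  have hBV : ∀ b ∈ B₀, f b ∈ V := by
    rintro _ ⟨b, -, rfl⟩; exact b.2
  have heq : ∀ b ∈ B₀, ∀ c ∈ B₀, f b = f c → b = c := fun b hb c hc h => by
    have := hinj (b * c⁻¹) (mul_mem hb (inv_mem hc)) (by rw [map_mul, map_inv, h, mul_inv_cancel])
    exact mul_inv_eq_one.1 this
  refine card_ne_sixteen_chev hF (B₀.map H.subtype) ?_ ?_ ?_
  · rintro _ ⟨a, ha, rfl⟩ _ ⟨b, hb, rfl⟩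
    rw [← map_mul, ← map_mul, heq _ (mul_mem ha hb) _ (mul_mem hb ha)
      (by rw [map_mul, map_mul, hVc _ (hBV a ha) _ (hBV b hb)])]
  · rintro _ ⟨a, ha, rfl⟩
    rw [← map_mul, heq _ (mul_mem ha ha) _ (one_mem _) (by rw [map_mul, hVs _ (hBV a ha), map_one]),
      map_one]
  · rw [← Nat.card_congr (B₀.equivMapOfInjective _ H.subtype_injective).toEquiv, hB₀]

end Cfsg.Agent.Lib.G2Sections
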