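import Cfsg.Agent.Lib.G2Sections.ToralFive

/-!
Outside characteristic five the alternating group of degree seven is not a section of a group of
type G2.
-/

set_option autoImplicit false

namespace Cfsg.Agent.Lib.G2Sections

open Cfsg.Lie Equiv

/-- An element of order five which an element of the group sends to its square can be lifted
through a homomorphism as soon as the 5-subgroups are commutative. -/
theorem exists_conj_sq_lift {Γ Q : Type*} [Group Γ] [Finite Γ] [Group Q] (f : Γ →* Q) (s t : Γ)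
    (hs : f s ≠ 1) (hs5 : f s ^ 5 = 1) (hst : f t * f s * (f t)⁻¹ = f s ^ 2)
    (hab : ∀ S : Subgroup Γ, IsPGroup 5 S → ∀ a ∈ S, ∀ b ∈ S, a * b = b * a) :
    ∃ z g : Γ, z ≠ 1 ∧ z ^ 5 = 1 ∧ g * z * g⁻¹ = z ^ 2 := by
  classical
  haveI : Fact (Nat.Prime 5) := ⟨by norm_num⟩
  set Z := Subgroup.zpowers (f s) with hZ
  let N : Subgroup Γ := (Subgroup.normalizer (Z : Set Q)).comap f
  let P₀ : Subgroup N := Z.comap (f.comp N.subtype)
  haveI : P₀.Normal := ⟨fun x hx g => by
    show f ((g : Γ) * x * (g : Γ)⁻¹) ∈ Z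
    rw [map_mul, map_mul, map_inv]
    exact (Subgroup.mem_normalizer_iff.1 g.2 _).1 hx⟩
  have hsN : s ∈ N := Subgroup.le_normalizer (Subgroup.mem_zpowers (f s))
  have htN : t ∈ N := by
    have h1 : Z.map (MulAut.conj (f t)).toMonoidHom = Z := by
      rw [hZ, MonoidHom.map_zpowers]
      show Subgroup.zpowers (f t * f s * (f t)⁻¹) = _
      rw [hst]
      refine le_antisymm (Subgroup.zpowers_le.2 (pow_mem (Subgroup.mem_zpowers _) 2))
        (Subgroup.zpowers_le.2 ⟨3, ?_⟩)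
      show (f s ^ 2) ^ ((3 : ℕ) : ℤ) = f s
      rw [zpow_natCast, ← pow_mul, show 2 * 3 = 5 + 1 by norm_num, pow_add, hs5, one_mul, pow_one]
    refine Subgroup.mem_normalizer_iff.2 fun x => ?_
    constructor
    · intro hx
      rw [← h1]
      exact ⟨x, hx, rfl⟩
    · intro hx
      rw [← h1] at hx
      obtain ⟨y, hy, e⟩ := hx
      have : y = x := mul_left_cancel (mul_right_cancel (show f t * y * (f t)⁻¹ = f t * x * (f t)⁻¹ from e))
      rwa [← this]
  obtain ⟨S⟩ : Nonempty (Sylow 5 P₀) := inferInstance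
  have hfr := Sylow.normalizer_sup_eq_top S
  set S₀ : Subgroup N := (S : Subgroup P₀).map P₀.subtype with hS₀
  have htop : (⟨t, htN⟩ : N) ∈ (↑(Subgroup.normalizer (S₀ : Set N) ⊔ P₀) : Set N) := by
    rw [hfr]; trivial
  rw [Subgroup.mul_normal] at htop
  obtain ⟨n, hn, x, hx, hnx⟩ := htop
  have hn2 : f (n : Γ) * f s * (f (n : Γ))⁻¹ = f s ^ 2 := by
    have hxZ : f (x : Γ) ∈ Z := hx
    obtain ⟨k, hk⟩ := hxZ
    have e : f (n : Γ) * f (x : Γ) = f t := by
      rw [← map_mul]; exact congrArg (fun u : N => f (u : Γ)) hnx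
    rw [← hst, ← e, show f (x : Γ) = f s ^ k from hk.symm]
    group
  have hSp : IsPGroup 5 S₀ := S.2.map _
  have habS : ∀ a ∈ S₀, ∀ b ∈ S₀, a * b = b * a := fun a ha b hb =>
    Subtype.ext (hab (S₀.map N.subtype) (hSp.map _) _ (Subgroup.mem_map_of_mem _ ha) _
      (Subgroup.mem_map_of_mem _ hb))
  have hnS : ∀ a ∈ S₀, n * a * n⁻¹ ∈ S₀ := fun a ha => (Subgroup.mem_normalizer_iff.1 hn a).1 ha
  let θ : S₀ →* S₀ :=
    { toFun := fun a => ⟨n * a * n⁻¹ * ((a : N) ^ 2)⁻¹, mul_mem (hnS _ a.2) (inv_mem (pow_mem a.2 2))⟩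
      map_one' := Subtype.ext (by simp)
      map_mul' := fun a b => Subtype.ext (by
        show n * ((a : N) * b) * n⁻¹ * (((a : N) * b) ^ 2)⁻¹ =
          n * a * n⁻¹ * ((a : N) ^ 2)⁻¹ * (n * b * n⁻¹ * ((b : N) ^ 2)⁻¹)
        rw [(show Commute (a : N) b from habS _ a.2 _ b.2).mul_pow, _root_.mul_inv_rev,
          show n * ((a : N) * b) * n⁻¹ = n * a * n⁻¹ * (n * b * n⁻¹) by group]
        rw [habS _ (inv_mem (pow_mem b.2 2)) _ (inv_mem (pow_mem a.2 2)),
          mul_assoc (n * a * n⁻¹), mul_assoc (n * a * n⁻¹), ← mul_assoc (n * b * n⁻¹) _ (_⁻¹),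
          habS _ (hnS _ b.2) _ (inv_mem (pow_mem a.2 2))]
        simp only [mul_assoc]) }
  obtain ⟨a, haS, hfa⟩ : ∃ a ∈ S₀, f (a : Γ) = f s := by
    let g : P₀ →* Z := ((f.comp N.subtype).comp P₀.subtype).codRestrict Z fun u => u.2
    have hg : Function.Surjective g := by
      rintro ⟨z, k, rfl⟩
      exact ⟨⟨⟨s ^ k, zpow_mem hsN k⟩, ⟨k, (map_zpow f s k).symm⟩⟩, Subtype.ext (map_zpow f s k)⟩
    haveI : Finite Z := Finite.of_surjective g hg
    have hord : orderOf (f s) = 5 := orderOf_eq_prime hs5 hs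
    have hgS : (S : Subgroup P₀).map g = ⊤ := by
      refine Subgroup.eq_top_of_card_eq _ ?_
      rw [show ((S : Subgroup P₀).map g) = ((S.mapSurjective hg : Sylow 5 Z) : Subgroup Z) from rfl,
        (S.mapSurjective hg).card_eq_multiplicity, Nat.card_zpowers, hord,
        Nat.Prime.factorization_self (by norm_num), pow_one]
    have : (⟨f s, Subgroup.mem_zpowers _⟩ : Z) ∈ (S : Subgroup P₀).map g := by rw [hgS]; trivial
    obtain ⟨u, hu, hue⟩ := this
    exact ⟨(u : N), Subgroup.mem_map_of_mem _ hu, congrArg Subtype.val hue⟩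
  have hns : ¬ Function.Surjective θ := fun hsur => by
    obtain ⟨b, hb⟩ := hsur ⟨a, haS⟩
    apply hs
    rw [← hfa, show a = n * (b : N) * n⁻¹ * ((b : N) ^ 2)⁻¹ from (congrArg Subtype.val hb).symm]
    obtain ⟨c, -, hc⟩ := b.2
    have hbZ : f ((b : N) : Γ) ∈ Z := by rw [← hc]; exact c.2
    obtain ⟨k, hk⟩ := hbZ
    have hk' : f ((b : N) : Γ) = f s ^ k := hk.symm
    simp only [Subgroup.coe_mul, InvMemClass.coe_inv, SubmonoidClass.coe_pow, map_mul, map_inv, map_pow, hk']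
    rw [← conj_zpow, hn2, ← zpow_natCast, ← zpow_natCast, ← zpow_mul, ← zpow_mul, mul_comm k,
      mul_inv_cancel]
  have hni : θ.ker ≠ ⊥ := fun hk =>
    hns (Finite.injective_iff_surjective.1 ((MonoidHom.ker_eq_bot_iff θ).1 hk))
  obtain ⟨k, hk0, hk⟩ := ((hSp.to_subgroup θ.ker).nontrivial_iff_card).1
    ((Subgroup.nontrivial_iff_ne_bot _).2 hni)
  obtain ⟨z, hz⟩ := exists_prime_orderOf_dvd_card' (G := θ.ker) 5 (hk ▸ dvd_pow_self 5 hk0.ne')
  refine ⟨(((z : S₀) : N) : Γ), (n : Γ), ?_, ?_, ?_⟩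
  · intro h1
    rw [show z = 1 from Subtype.ext (Subtype.ext (Subtype.ext h1)), orderOf_one] at hz
    norm_num at hz
  · have := congrArg (fun u : θ.ker => (((u : S₀) : N) : Γ)) (hz ▸ pow_orderOf_eq_one z)
    simpa using this
  · have := congrArg (fun u : S₀ => ((u : N) : Γ)) (MonoidHom.mem_ker.1 z.2)
    simp only [θ, MonoidHom.coe_mk, OneHom.coe_mk, Subgroup.coe_mul, InvMemClass.coe_inv,
      SubmonoidClass.coe_pow, OneMemClass.coe_one] at this
    exact mul_inv_eq_one.1 this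

/-- A five cycle and an element sending it to its square. -/
theorem exists_five_cycle : ∃ s t : ↥(alternatingGroup (Fin 7)),
    s ≠ 1 ∧ s ^ 5 = 1 ∧ t * s * t⁻¹ = s ^ 2 := by
  refine ⟨⟨swap 0 1 * swap 1 2 * swap 2 3 * swap 3 4, Perm.mem_alternatingGroup.2 (by decide +kernel)⟩,
    ⟨swap 1 2 * swap 2 4 * swap 4 3 * swap 5 6, Perm.mem_alternatingGroup.2 (by decide +kernel)⟩, ?_, ?_, ?_⟩
  all_goals decide +kernel

theorem not_altSeven_section {F : Type*} [Field F] [Fintype F] (p : ℕ) [Fact p.Prime] [CharP F p]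
    (hp5 : p ≠ 5) (H : Subgroup ↥(chevG2.group F)) (f : H →* ↥(alternatingGroup (Fin 7)))
    (hf : Function.Surjective f) : False := by
  classical
  let K := FiniteField.Extension F p 4
  letI : Fintype K := Fintype.ofFinite K
  have hK : Fintype.card K % 5 = 1 := by
    rw [← Nat.card_eq_fintype_card, FiniteField.natCard_extension, Nat.card_eq_fintype_card]
    have h5 : ¬ 5 ∣ Fintype.card F := by
      obtain ⟨n, -, hn⟩ := FiniteField.card F p
      rw [hn]
      exact fun h => hp5 ((Nat.prime_dvd_prime_iff_eq (by norm_num) Fact.out).1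
        ((Nat.Prime.dvd_of_dvd_pow (by norm_num)) h)).symm
    rw [Nat.dvd_iff_mod_eq_zero] at h5
    have hlt : Fintype.card F % 5 < 5 := Nat.mod_lt _ (by norm_num)
    rw [Nat.pow_mod]
    generalize Fintype.card F % 5 = r at h5 hlt ⊢
    interval_cases r <;> first | omega | norm_num
  let ι : F →+* K := algebraMap F K
  let j : H →* ↥(chevG2.group K) :=
    ((ChevField.glMap chevG2 ι).comp ((chevG2.group F).subtype.comp H.subtype)).codRestrict _
      fun x => ChevField.glMap_group_le ι (Subgroup.mem_map_of_mem _ (x : ↥(chevG2.group F)).2)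
  have hj : Function.Injective j := fun x y e =>
    Subtype.ext (Subtype.ext (ChevField.glMap_injective ι (congrArg Subtype.val e)))
  obtain ⟨s₀, t₀, hs, hs5, hst⟩ := exists_five_cycle
  obtain ⟨s, rfl⟩ := hf s₀
  obtain ⟨t, rfl⟩ := hf t₀
  obtain ⟨z, g, hz, hz5, hg⟩ := exists_conj_sq_lift f s t hs hs5 hst (fun S hS a ha b hb => hj (by
    rw [map_mul, map_mul]
    exact isMulCommutative_of_isPGroup_five hK (S.map j) (hS.map j) _ (Subgroup.mem_map_of_mem _ ha)
      _ (Subgroup.mem_map_of_mem _ hb)))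
  refine hz (hj (eq_one_of_conj_sq hK (j z) (j g) ?_ ?_ |>.trans (map_one j).symm))
  · rw [← map_pow, hz5, map_one]
  · rw [← map_inv, ← map_mul, ← map_mul, hg, map_pow]

end Cfsg.Agent.Lib.G2Sections
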