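import Cfsg.Agent.Lib.G2Sections.DiagSimilar
import Cfsg.Agent.Lib.ChevField.Fixed
import Cfsg.Agent.Lib.Chev.Perfect
import Cfsg.Agent.Lib.Chev.PoincareG2

/-!
Outside characteristic five, no element of order five of a group of type G2 is conjugate to its
square, up to the existence of the alternating group of degree seven as a section.
-/

set_option autoImplicit false

namespace Cfsg.Agent.Lib.G2Sections

open Cfsg.Lie Cfsg.Agent.Lib.Chev

variable {K : Type*} [Field K] [Fintype K]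

/-- The torus of G2 as a subgroup of the group. -/
def torusIn (K : Type*) [Field K] : Subgroup ↥(chevG2.group K) :=
  (chevG2.diagonalSubgroup K).subgroupOf (chevG2.group K)

theorem prod_gcd_smith (m : ℕ) :
    ∏ i : Fin chevG2.rank, m.gcd ([1, 1].getD i.val 0) = 1 := by
  refine Finset.prod_eq_one fun ⟨i, hi⟩ _ => ?_
  have hi2 : i < 2 := hi
  interval_cases i <;> exact Nat.gcd_one_right m

theorem not_dvd_index_torusIn (h5 : Fintype.card K % 5 = 1) : ¬ 5 ∣ (torusIn K).index := by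
  have hh := rooted_G2
  set q := Fintype.card K with hq
  obtain ⟨n, hn⟩ : ∃ n, q = n + 1 := ⟨q - 1, by omega⟩
  have hn0 : n ≠ 0 := by
    have : 1 < q := Fintype.one_lt_card
    omega
  have hG : Nat.card ↥(chevG2.group K) = q ^ 6 * ((q ^ 2 - 1) * (q ^ 6 - 1)) := by
    have := hh.card_group_mul (F := K) G2.smith_ok G2.chain_ok G2.poly_ok
    rw [prod_gcd_smith] at this
    simpa [show chevG2.nroots = 12 from rfl, G2.degs, ← hq] using this
  have hT : Nat.card ↥(torusIn K) = n ^ 2 := by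
    rw [torusIn, Nat.card_congr (Subgroup.subgroupOfEquivOfLe hh.diagonal_le_group).toEquiv]
    have := hh.card_diagonal (F := K) G2.smith_ok
    rw [prod_gcd_smith] at this
    simpa [show chevG2.rank = 2 from rfl, ← hq, hn] using this
  have hmul := (torusIn K).card_mul_index
  rw [hT, hG] at hmul
  have hfac : (q ^ 2 - 1) * (q ^ 6 - 1) =
      n ^ 2 * ((q + 1) * (q ^ 5 + q ^ 4 + q ^ 3 + q ^ 2 + q + 1)) := by
    have e2 : q ^ 2 = n * (q + 1) + 1 := by rw [hn]; ring
    have e6 : q ^ 6 = n * (q ^ 5 + q ^ 4 + q ^ 3 + q ^ 2 + q + 1) + 1 := by rw [hn]; ring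
    conv_lhs => rw [e2, e6, Nat.add_sub_cancel, Nat.add_sub_cancel]
    ring
  rw [hfac, mul_left_comm] at hmul
  have hidx := Nat.eq_of_mul_eq_mul_left (pow_pos (Nat.pos_of_ne_zero hn0) 2) hmul
  rw [hidx]
  intro hd
  have := Nat.mod_eq_zero_of_dvd hd
  simp [Nat.mul_mod, Nat.add_mod, Nat.pow_mod, h5] at this

theorem exists_conj_le_torusIn (h5 : Fintype.card K % 5 = 1) (S : Subgroup ↥(chevG2.group K))
    (hS : IsPGroup 5 S) : ∃ h : ↥(chevG2.group K), ∀ x ∈ S, h * x * h⁻¹ ∈ torusIn K := by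
  haveI : Fact (Nat.Prime 5) := ⟨by norm_num⟩
  obtain ⟨P⟩ : Nonempty (Sylow 5 ↥(torusIn K)) := inferInstance
  let P₀ : Subgroup ↥(chevG2.group K) := (P : Subgroup ↥(torusIn K)).map (torusIn K).subtype
  have hidx : ¬ 5 ∣ P₀.index := by
    rw [Subgroup.index_map_subtype, Nat.Prime.dvd_mul (by norm_num)]
    exact not_or.2 ⟨P.not_dvd_index, not_dvd_index_torusIn h5⟩
  let Q : Sylow 5 ↥(chevG2.group K) := (P.2.map _ : IsPGroup 5 P₀).toSylow hidx
  obtain ⟨R, hR⟩ := hS.exists_le_sylow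
  obtain ⟨h, hh⟩ := MulAction.exists_smul_eq ↥(chevG2.group K) R Q
  refine ⟨h, fun x hx => ?_⟩
  have hmem : h * x * h⁻¹ ∈ (Q : Subgroup ↥(chevG2.group K)) := by
    rw [← hh, Sylow.coe_subgroup_smul]
    exact Subgroup.smul_mem_pointwise_smul x (MulAut.conj h) _ (hR hx)
  obtain ⟨y, -, hy⟩ := hmem
  rw [← hy]
  exact y.2

theorem isMulCommutative_of_isPGroup_five (h5 : Fintype.card K % 5 = 1)
    (S : Subgroup ↥(chevG2.group K)) (hS : IsPGroup 5 S) :
    ∀ a ∈ S, ∀ b ∈ S, a * b = b * a := by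
  intro a ha b hb
  obtain ⟨h, hh⟩ := exists_conj_le_torusIn h5 S hS
  have e : (h * a * h⁻¹) * (h * b * h⁻¹) = (h * b * h⁻¹) * (h * a * h⁻¹) :=
    Subtype.ext (rooted_G2.diagonal_commute (hh a ha) (hh b hb))
  simp only [mul_assoc, inv_mul_cancel_left] at e
  exact mul_right_cancel (b := h⁻¹) (by simpa only [mul_assoc] using mul_left_cancel e)

/-- The exponents of a torus element on the fourteen basis vectors. -/
def expVec (a b : ZMod 5) : chevG2.Idx → ZMod 5 :=
  Sum.elim (fun _ => 0) fun s => a * (chevG2.cartan 0 s.val : ℤ) + b * (chevG2.cartan 1 s.val : ℤ)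

theorem expVec_double : ∀ a b : ZMod 5,
    Finset.univ.val.map (fun x => (2 : ZMod 5) * expVec a b x) = Finset.univ.val.map (expVec a b) →
      a = 0 ∧ b = 0 := by
  decide +kernel

/-- A primitive fifth root of unity raised to a residue. -/
def rootPow (ζ : Kˣ) (hζ : ζ ^ 5 = 1) : Multiplicative (ZMod 5) →* Kˣ :=
  AddMonoidHom.toMultiplicativeLeft (ZMod.lift 5
    ⟨zmultiplesHom (Additive Kˣ) (Additive.ofMul ζ), by
      simp only [zmultiplesHom_apply, Nat.cast_ofNat]
      rw [← ofMul_zpow, zpow_ofNat, hζ, ofMul_one]⟩)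

omit [Fintype K] in
theorem rootPow_intCast (ζ : Kˣ) (hζ : ζ ^ 5 = 1) (m : ℤ) :
    rootPow ζ hζ (Multiplicative.ofAdd (m : ZMod 5)) = ζ ^ m := by
  simp [rootPow]

theorem eq_one_of_conj_sq (h5 : Fintype.card K % 5 = 1) (z g : ↥(chevG2.group K)) (hz : z ^ 5 = 1)
    (hg : g * z * g⁻¹ = z ^ 2) : z = 1 := by
  classical
  haveI : Fact (Nat.Prime 5) := ⟨by norm_num⟩
  have hh := rooted_G2
  have hzp : IsPGroup 5 (Subgroup.zpowers z) := IsPGroup.of_card (n := if z = 1 then 0 else 1) (by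
    rw [Nat.card_zpowers]
    split_ifs with h
    · simp [h]
    · simpa using orderOf_eq_prime hz h)
  obtain ⟨h, hconj⟩ := exists_conj_le_torusIn h5 _ hzp
  set y := h * z * h⁻¹ with hy
  set g' := h * g * h⁻¹ with hg'
  have hgy : g' * y * g'⁻¹ = y ^ 2 := by
    rw [hy, hg', conj_pow, ← hg]; group
  suffices hy1 : y = 1 by
    rwa [hy, conj_eq_one_iff] at hy1
  have hy5 : y ^ 5 = 1 := by rw [hy, conj_pow, hz]; simp
  obtain ⟨c, hc⟩ : (y : GL chevG2.Idx K) ∈ (torusHom chevG2 K).range := by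
    rw [← hh.diagonalSubgroup_eq]; exact hconj z (Subgroup.mem_zpowers z)
  -- the coordinates are fifth roots of unity
  have hc5 : ∀ i < chevG2.rank, c i ^ 5 = 1 := by
    have h1 : torusHom chevG2 K (c ^ 5) = 1 := by
      rw [map_pow, hc, ← SubmonoidClass.coe_pow, hy5, OneMemClass.coe_one]
    rw [hh.toChecked.torusHom_eq_one_iff, ← MonoidHom.mem_ker] at h1
    have hk : (zpowMap Kˣ (cmMat chevG2 G2.cert)).ker = ⊥ := by
      refine Subgroup.eq_bot_of_card_eq _ ?_
      rw [card_ker_of_smith G2.smith_ok]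
      exact prod_gcd_smith _
    rw [hk, Subgroup.mem_bot] at h1
    exact fun i hi => congrFun h1 ⟨i, hi⟩
  obtain ⟨ζ, hζ⟩ : ∃ ζ : Kˣ, orderOf ζ = 5 :=
    exists_prime_orderOf_dvd_card 5 (by
      rw [Fintype.card_units]
      omega)
  have hζ5 : ζ ^ 5 = 1 := hζ ▸ pow_orderOf_eq_one ζ
  have hgen : ∀ u : Kˣ, u ^ 5 = 1 → ∃ m : ℤ, ζ ^ m = u := fun u hu => by
    have hprim : IsPrimitiveRoot ζ 5 := hζ ▸ IsPrimitiveRoot.orderOf ζ
    obtain ⟨i, -, hi⟩ := (IsPrimitiveRoot.coe_units_iff.2 hprim).eq_pow_of_pow_eq_one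
      (show (u : K) ^ 5 = 1 by rw [← Units.val_pow_eq_pow_val, hu, Units.val_one])
    exact ⟨(i : ℤ), by rw [zpow_natCast]; exact Units.ext (by rw [Units.val_pow_eq_pow_val, hi])⟩
  obtain ⟨a, ha⟩ := hgen _ (hc5 0 (by decide))
  obtain ⟨b, hb⟩ := hgen _ (hc5 1 (by decide))
  let ρ : ZMod 5 → K := fun m => ((rootPow ζ hζ5 (Multiplicative.ofAdd m) : Kˣ) : K)
  have hρinj : Function.Injective ρ := by
    refine Units.val_injective.comp (Function.Injective.comp ?_ Multiplicative.ofAdd.injective)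
    rw [injective_iff_map_eq_one]
    intro m hm
    obtain ⟨k, hk⟩ := ZMod.intCast_surjective (Multiplicative.toAdd m)
    have e : m = Multiplicative.ofAdd ((k : ℤ) : ZMod 5) := by rw [hk]; rfl
    rw [e, rootPow_intCast, ← orderOf_dvd_iff_zpow_eq_one, hζ] at hm
    rw [e, (ZMod.intCast_zmod_eq_zero_iff_dvd k 5).2 hm]
    rfl
  have hdiag : ((y : GL chevG2.Idx K) : Matrix chevG2.Idx chevG2.Idx K) =
      Matrix.diagonal (fun x => ρ (expVec a b x)) := by
    rw [← hc, coe_torusHom, ChevalleyDatum.charDiag]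
    congr 1
    funext x
    rcases x with i | s
    · simp [ρ, expVec]
    · simp only [Sum.elim_inr, ρ, expVec]
      rw [show (a : ZMod 5) * (chevG2.cartan 0 s.val : ℤ) + (b : ZMod 5) * (chevG2.cartan 1 s.val : ℤ) =
        ((a * chevG2.cartan 0 s.val + b * chevG2.cartan 1 s.val : ℤ) : ZMod 5) by push_cast; ring,
        rootPow_intCast, zpow_add, zpow_mul, zpow_mul, ha, hb, torusFun]
      simp [show chevG2.rank = 2 from rfl, Finset.prod_range_succ]
  have hsq : ((y ^ 2 : ↥(chevG2.group K)) : GL chevG2.Idx K).1 =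
      Matrix.diagonal (fun x => ρ (2 * expVec a b x)) := by
    rw [pow_two, Subgroup.coe_mul, Units.val_mul, hdiag, Matrix.diagonal_mul_diagonal]
    congr 1
    funext x
    simp only [ρ, two_mul, ofAdd_add, map_mul, Units.val_mul]
  have hsim : Finset.univ.val.map (fun x => ρ (2 * expVec a b x)) =
      Finset.univ.val.map (fun x => ρ (expVec a b x)) := by
    refine (map_eq_of_conj_diagonal (P := (g' : GL chevG2.Idx K)) ?_).symm
    rw [← hdiag, ← hsq, ← hgy]
    rfl
  have := expVec_double a b (by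
    refine Multiset.map_injective hρinj ?_
    rwa [Multiset.map_map, Multiset.map_map])
  have hy1 : ((y : GL chevG2.Idx K) : Matrix chevG2.Idx chevG2.Idx K) = 1 := by
    rw [hdiag, ← Matrix.diagonal_one]
    congr 1
    funext x
    rw [this.1, this.2]
    rcases x with i | s <;> simp [ρ, expVec]
  exact Subtype.ext (Units.ext hy1)

end Cfsg.Agent.Lib.G2Sections
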