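import Cfsg.Agent.Lib.G2Inv.Main
import Cfsg.Agent.Lib.G2Sections.DiagSimilar

/-!
In odd characteristic an elementary abelian 2-subgroup of a group of type G2 has order at most 8.
-/

set_option autoImplicit false

namespace Cfsg.Agent.Lib.G2Sections

open Matrix Cfsg.Lie Cfsg.Agent.Lib.G2Inv Cfsg.Agent.Lib.ZornG2

universe u

/-- No constant weight four code of length eight has sixteen words. -/
theorem card_ne_sixteen {A : Type*} [Group A] [Fintype A] (S : A → Fin 8 → Bool)
    (hmul : ∀ a b i, S (a * b) i = xor (S a i) (S b i))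
    (hw : ∀ a, a ≠ 1 → (Finset.univ.filter fun i => S a i = true).card = 4) :
    Fintype.card A ≠ 16 := by
  classical
  intro hA
  have h1 : ∀ i, S 1 i = false := fun i => by
    have := hmul 1 1 i
    rw [mul_one] at this
    simpa using this
  have hi : ∀ i, (Finset.univ.filter fun a => S a i = true).card = 0 ∨
      (Finset.univ.filter fun a => S a i = true).card = 8 := by
    intro i
    by_cases h : ∃ a₀, S a₀ i = true
    · obtain ⟨a₀, ha₀⟩ := h
      right
      have e : (Finset.univ.filter fun a => S a i = true).card =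
          (Finset.univ.filter fun a => ¬ S a i = true).card := by
        refine Finset.card_bij (fun a _ => a₀ * a) (fun a ha => ?_)
          (fun a _ b _ e => mul_left_cancel e) (fun b hb => ⟨a₀⁻¹ * b, ?_, by group⟩)
        · simp only [Finset.mem_filter, Finset.mem_univ, true_and] at ha ⊢
          simp [hmul, ha, ha₀]
        · simp only [Finset.mem_filter, Finset.mem_univ, true_and] at hb ⊢
          have h' : S a₀⁻¹ i = true := by
            have := hmul a₀⁻¹ a₀ i
            rw [inv_mul_cancel, h1, ha₀] at this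
            simpa using this.symm
          simp [hmul, h', Bool.eq_false_iff.2 hb]
      have hs := Finset.card_filter_add_card_filter_not (s := (Finset.univ : Finset A))
        (fun a => S a i = true)
      rw [Finset.card_univ, hA] at hs
      omega
    · left
      push Not at h
      simp [Finset.filter_eq_empty_iff, h]
  have hsum : ∑ a : A, (Finset.univ.filter fun i => S a i = true).card = 60 := by
    rw [← Finset.add_sum_erase _ _ (Finset.mem_univ (1 : A)),
      Finset.sum_congr rfl fun a ha => hw a (Finset.ne_of_mem_erase ha), Finset.sum_const,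
      Finset.card_erase_of_mem (Finset.mem_univ _), Finset.card_univ, hA]
    simp [h1]
  have hswap : ∑ a : A, (Finset.univ.filter fun i => S a i = true).card =
      ∑ i : Fin 8, (Finset.univ.filter fun a => S a i = true).card := by
    simp only [Finset.card_filter]
    exact Finset.sum_comm
  have hdvd : 8 ∣ ∑ i : Fin 8, (Finset.univ.filter fun a => S a i = true).card :=
    Finset.dvd_sum fun i _ => by rcases hi i with h | h <;> simp [h]
  rw [← hswap, hsum] at hdvd
  norm_num at hdvd

variable {F : Type u} [Field F]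

/-- The signs of the standard involution on the eight coordinates. -/
def tSigns (F : Type*) [Field F] : Fin 8 → F := ![1, 1, -1, -1, 1, -1, -1, 1]

theorem tStd_eq_diagonal : ((tStd F : ↥(Cfsg.Lie.G2 F)) : GL (Fin 8) F).1 = diagonal (tSigns F) := by
  refine Matrix.ext_of_mulVec_single fun j => ?_
  show act (tStd F) (Pi.single j 1) = _
  rw [act_tStd]
  funext i
  rw [Matrix.mulVec_diagonal]
  fin_cases i <;> simp [tSigns]

theorem card_le_eight_G2 [Fintype F] (h2 : (2 : F) ≠ 0) (A : Subgroup ↥(Cfsg.Lie.G2 F))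
    (hc : ∀ a ∈ A, ∀ b ∈ A, a * b = b * a) (hs : ∀ a ∈ A, a * a = 1) (hA : Nat.card A = 16) :
    False := by
  classical
  let M : A → Matrix (Fin 8) (Fin 8) F := fun a => ((a : ↥(Cfsg.Lie.G2 F)) : GL (Fin 8) F).1
  have hMmul : ∀ a b, M (a * b) = M a * M b := fun a b => rfl
  obtain ⟨P, hP⟩ := SignDiag.exists_signDiag h2 (Set.range M) (Set.finite_range M)
    (by rintro _ ⟨a, rfl⟩
        rw [← hMmul, show a * a = 1 from Subtype.ext (hs _ a.2)]; rfl)
    (by rintro _ ⟨a, rfl⟩ _ ⟨b, rfl⟩
        rw [← hMmul, ← hMmul, show a * b = b * a from Subtype.ext (hc _ a.2 _ b.2)])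
  choose s hs1 hs2 using fun a : A => hP (M a) ⟨a, rfl⟩
  have hn : (1 : F) ≠ -1 := fun h => h2 (by linear_combination h)
  have hsmul : ∀ a b i, s (a * b) i = s a i * s b i := by
    intro a b i
    have e : (P : Matrix (Fin 8) (Fin 8) F) * diagonal (s (a * b)) =
        (P : Matrix (Fin 8) (Fin 8) F) * diagonal (fun i => s a i * s b i) := by
      rw [← hs2, hMmul, mul_assoc, hs2, ← mul_assoc, hs2, mul_assoc, diagonal_mul_diagonal]
    exact congrFun (diagonal_injective ((Units.isUnit P).mul_left_cancel e)) i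
  letI : Fintype A := Fintype.ofFinite _
  refine card_ne_sixteen (A := A) (fun a i => decide (s a i = -1)) ?_ ?_
    (by rw [← Nat.card_eq_fintype_card, hA])
  · intro a b i
    rcases hs1 a i with h | h <;> rcases hs1 b i with h' | h' <;> simp [hsmul, h, h', hn]
  · intro a ha
    obtain ⟨g, hg⟩ := exists_conj_tStd h2 (hs _ a.2) fun e => ha (Subtype.ext e)
    set gm : GL (Fin 8) F := (g : GL (Fin 8) F)
    have hg' : gm.1 * M a * ((gm⁻¹ : GL (Fin 8) F) : Matrix (Fin 8) (Fin 8) F) =
        diagonal (tSigns F) := by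
      rw [← tStd_eq_diagonal, ← hg]; rfl
    have hMa : M a = (P : Matrix (Fin 8) (Fin 8) F) * diagonal (s a) *
        ((P⁻¹ : GL (Fin 8) F) : Matrix (Fin 8) (Fin 8) F) := by
      rw [← hs2, mul_assoc, ← Units.val_mul, mul_inv_cancel, Units.val_one, mul_one]
    have hconj : ((gm * P : GL (Fin 8) F) : Matrix (Fin 8) (Fin 8) F) * diagonal (s a) *
        (((gm * P)⁻¹ : GL (Fin 8) F) : Matrix (Fin 8) (Fin 8) F) = diagonal (tSigns F) := by
      rw [← hg', hMa, _root_.mul_inv_rev, Units.val_mul, Units.val_mul]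
      simp only [mul_assoc]
    have := card_filter_eq_of_map_eq (map_eq_of_conj_diagonal hconj) (-1 : F)
    simp only [decide_eq_true_eq]
    rw [this, Finset.card_filter, Fin.sum_univ_eight]
    simp [tSigns, hn]

/-- An abelian subgroup of exponent two of the Chevalley group of type G2 has order below 16. -/
theorem card_ne_sixteen_chev [Fintype F] (hF : Odd (Fintype.card F))
    (A : Subgroup ↥(chevG2.group F)) (hc : ∀ a ∈ A, ∀ b ∈ A, a * b = b * a)
    (hs : ∀ a ∈ A, a * a = 1) : Nat.card A ≠ 16 := by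
  intro hA
  obtain ⟨e⟩ := G2Inv.nonempty_iso (F := F)
  refine card_le_eight_G2 (two_ne_zero_of_odd hF) (A.map e.toMonoidHom) ?_ ?_ ?_
  · rintro _ ⟨a, ha, rfl⟩ _ ⟨b, hb, rfl⟩
    rw [← map_mul, ← map_mul, hc a ha b hb]
  · rintro _ ⟨a, ha, rfl⟩
    rw [← map_mul, hs a ha, map_one]
  · rw [← Nat.card_congr (A.equivMapOfInjective _ e.injective).toEquiv, hA]

/-- An abelian subgroup of exponent two of the Chevalley group of type G2 has order at most eight. -/
theorem card_le_eight [Fintype F] (hF : Odd (Fintype.card F)) (A : Subgroup ↥(chevG2.group F))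
    (hc : ∀ a ∈ A, ∀ b ∈ A, a * b = b * a) (hs : ∀ a ∈ A, a * a = 1) : Nat.card A ≤ 8 := by
  classical
  by_contra hlt
  push Not at hlt
  have hp : IsPGroup 2 A := fun a => ⟨1, Subtype.ext (by
    simp only [pow_one, SubmonoidClass.coe_pow, OneMemClass.coe_one]
    rw [pow_two]; exact hs _ a.2)⟩
  obtain ⟨k, hk⟩ := IsPGroup.iff_card.1 hp
  have h16 : 2 ^ 4 ∣ Nat.card A := by
    rw [hk]; refine pow_dvd_pow 2 ?_
    by_contra h; push Not at h
    have : 2 ^ k ≤ 2 ^ 3 := Nat.pow_le_pow_right (by norm_num) (by omega)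
    omega
  obtain ⟨B, hB⟩ := Sylow.exists_subgroup_card_pow_prime 2 h16
  refine card_ne_sixteen_chev hF (B.map A.subtype) ?_ ?_ ?_
  · rintro _ ⟨a, -, rfl⟩ _ ⟨b, -, rfl⟩; exact hc _ a.2 _ b.2
  · rintro _ ⟨a, -, rfl⟩; exact hs _ a.2
  · rw [← Nat.card_congr (B.equivMapOfInjective _ A.subtype_injective).toEquiv, hB]; norm_num

end Cfsg.Agent.Lib.G2Sections
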